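import Groth.Agent.AbSch7.SectionComp
import Groth.Agent.GeomCount24.Section
import Groth.Agent.NeronHD28.SmoothReg
import Groth.Agent.Props58.Comp
import Groth.Prelude.Def_MoreMor

/-! The union of the fibre components met by a section of a smooth morphism is open. -/

set_option autoImplicit false
set_option linter.style.haveILetI false
set_option backward.isDefEq.respectTransparency false

universe u

open CategoryTheory CategoryTheory.Limits AlgebraicGeometry TopologicalSpace TensorProduct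

namespace Groth.Agent.SecComp38

/-- The connected components of a scheme which is smooth over a field are irreducible. -/
theorem isPreirreducible_connectedComponent {K : Type u} [Field K] {Y : Scheme.{u}}
    (q : Y ⟶ Spec (CommRingCat.of K)) [Smooth q] (y : Y) : IsPreirreducible (connectedComponent y) := by
  have : IsLocallyNoetherian Y := LocallyOfFiniteType.isLocallyNoetherian q
  have hu : ∀ a : Y, ∀ Z ∈ irreducibleComponents Y, ∀ Z' ∈ irreducibleComponents Y, a ∈ Z → a ∈ Z' → Z = Z' :=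
    fun a Z hZ Z' hZ' h h' => Props58.eq_of_isDomain_stalk a (NeronHD28.isDomain_stalk_of_smooth q a) Z hZ Z' hZ' h h'
  have hopen : IsOpen (irreducibleComponent y) := Props58.isOpen_irreducibleComponent hu (fun a => by
    obtain ⟨U, hU, haU, -⟩ := exists_isAffineOpen_mem_and_subset (U := (⊤ : Y.Opens)) (x := a) trivial
    have : IsNoetherianRing Γ(Y, U) := IsLocallyNoetherian.component_noetherian ⟨U, hU⟩
    have : IsNoetherian (U : Scheme.{u}) :=
      { component_noetherian := (isLocallyNoetherian_of_isOpenImmersion U.ι).component_noetherian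
        toCompactSpace := isCompact_iff_compactSpace.mp hU.isCompact }
    exact ⟨U, haU, NoetherianSpace.finite_irreducibleComponents (α := ↥(U : Scheme.{u}))⟩)
    (irreducibleComponent_mem_irreducibleComponents y)
  have hcl : IsClopen (irreducibleComponent y) := ⟨isClosed_irreducibleComponent, hopen⟩
  have hsub : connectedComponent y ⊆ irreducibleComponent y := hcl.connectedComponent_subset mem_irreducibleComponent
  have heq : connectedComponent y = irreducibleComponent y :=
    hsub.antisymm (isIrreducible_irreducibleComponent.isConnected.isPreconnected.subset_connectedComponent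
      mem_irreducibleComponent)
  rw [heq]
  exact isIrreducible_irreducibleComponent.isPreirreducible

/-- The connected components of the fibres of a smooth morphism are irreducible. -/
theorem isPreirreducible_connectedComponentIn {X S : Scheme.{u}} (f : X ⟶ S) [Smooth f] (x : X) :
    IsPreirreducible (connectedComponentIn (f ⁻¹' {f x}) x) := by
  obtain ⟨a, ha⟩ : x ∈ Set.range (f.fiberι (f x)) := (f.range_fiberι (f x)).ge (rfl : f x = f x)
  have : Smooth (f.fiberToSpecResidueField (f x)) := MorphismProperty.pullback_snd _ _ inferInstance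
  rw [show connectedComponentIn (f ⁻¹' {f x}) x = connectedComponentIn (f ⁻¹' {f x}) (f.fiberι (f x) a) by rw [ha],
    ← GeomCount24.image_connectedComponent (f.fiberι (f x)).isEmbedding (f.range_fiberι (f x)) a]
  exact (isPreirreducible_connectedComponent (K := S.residueField (f x)) (f.fiberToSpecResidueField (f x)) a).image _
    (f.fiberι (f x)).continuous.continuousOn

/-- A section has a neighbourhood inside the union of the components it meets. -/
theorem exists_nhd_subset {P T : Scheme.{u}} (p : P ⟶ T) [Smooth p] (τ : T ⟶ P) (hτ : τ ≫ p = 𝟙 T) (t : T) :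
    ∃ N : P.Opens, τ t ∈ N ∧ (N : Set P) ⊆ MoreMor.sectionComponents p τ := by
  have hpτ : ∀ s, p (τ s) = s := fun s => by rw [← Scheme.Hom.comp_apply, hτ]; rfl
  obtain ⟨V, hV, htV, -⟩ := exists_isAffineOpen_mem_and_subset (U := (⊤ : T.Opens)) (x := t) trivial
  obtain ⟨U, hU, htU, hUV⟩ := exists_isAffineOpen_mem_and_subset (U := p ⁻¹ᵁ V) (x := τ t)
    (show p (τ t) ∈ V by rw [hpτ]; exact htV)
  have hUV' : U ≤ p ⁻¹ᵁ V := hUV
  obtain ⟨r, hr, htr⟩ := hV.exists_basicOpen_le (V := τ ⁻¹ᵁ U) ⟨t, htU⟩ htV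
  let V' := T.basicOpen r
  let U' := P.basicOpen ((p.appLE V U hUV').hom r)
  have hU'eq : U' = U ⊓ p ⁻¹ᵁ V' := Scheme.basicOpen_appLE p U V hUV' r
  have hV' : IsAffineOpen V' := hV.basicOpen r
  have hU' : IsAffineOpen U' := hU.basicOpen _
  have eφ : U' ≤ p ⁻¹ᵁ V' := hU'eq.le.trans inf_le_right
  have eσ : V' ≤ τ ⁻¹ᵁ U' := fun s hs => by
    show τ s ∈ U'
    rw [hU'eq]
    exact ⟨hr hs, show p (τ s) ∈ V' by rw [hpτ]; exact hs⟩
  let φ := (p.appLE V' U' eφ).hom
  letI : Algebra Γ(T, V') Γ(P, U') := φ.toAlgebra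
  haveI : Algebra.Smooth Γ(T, V') Γ(P, U') := p.smooth_appLE hV' hU' eφ
  let σ : Γ(P, U') →ₐ[Γ(T, V')] Γ(T, V') :=
    { (τ.appLE U' V' eσ).hom with
      commutes' := fun a => by
        show (p.appLE V' U' eφ ≫ τ.appLE U' V' eσ).hom a = a
        rw [Scheme.Hom.appLE_comp_appLE]
        have key : ∀ (g : T ⟶ T) (_ : g = 𝟙 T) (e : V' ≤ g ⁻¹ᵁ V'), (g.appLE V' V' e).hom a = a := by
          rintro _ rfl e
          simp [Scheme.Hom.appLE]
          exact congrArg (fun m => m.hom a) (T.presheaf.map_id (Opposite.op V'))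
        exact key _ hτ _ }
  have hp_spec : ∀ Q : PrimeSpectrum Γ(P, U'),
      p (hU'.fromSpec Q) = hV'.fromSpec (PrimeSpectrum.comap φ Q) := fun Q => by
    rw [← Scheme.Hom.comp_apply, ← IsAffineOpen.SpecMap_appLE_fromSpec p hV' hU' eφ]
    rfl
  have hτ_spec : ∀ q : PrimeSpectrum Γ(T, V'),
      τ (hV'.fromSpec q) = hU'.fromSpec (PrimeSpectrum.comap σ.toRingHom q) := fun q => by
    rw [← Scheme.Hom.comp_apply, ← IsAffineOpen.SpecMap_appLE_fromSpec τ hU' hV' eσ]
    rfl
  let N : P.Opens := ⟨hU'.fromSpec '' RG29.compSet σ,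
    hU'.fromSpec.isOpenEmbedding.isOpenMap _ (RG29.compSet_isOpen σ)⟩
  refine ⟨N, ?_, ?_⟩
  · obtain ⟨q, hq⟩ : t ∈ Set.range hV'.fromSpec := hV'.range_fromSpec.symm ▸ htr
    refine ⟨PrimeSpectrum.comap σ.toRingHom q, ?_, (hτ_spec q).symm.trans (congrArg (fun s => τ s) hq)⟩
    let L := q.asIdeal.ResidueField
    rw [RG29.mem_compSet_iff σ _ ((IsScalarTower.toAlgHom Γ(T, V') Γ(T, V') L).comp σ) fun c => by
      show algebraMap _ L (σ c) = 0 ↔ _
      rw [Ideal.algebraMap_residueField_eq_zero]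
      rfl]
    obtain ⟨e, he⟩ := RG29.exists_isCompIdem_secMap σ L
    refine ⟨e, he, ?_⟩
    have : RG29.ptMap ((IsScalarTower.toAlgHom Γ(T, V') Γ(T, V') L).comp σ) = RG29.secMap σ L :=
      Algebra.TensorProduct.ext' fun l c => by simp [RG29.ptMap, RG29.secMap_tmul]
    rw [this]
    exact he.2.1
  · rintro _ ⟨z, hz, rfl⟩
    let L := z.asIdeal.ResidueField
    let τz : Γ(P, U') →ₐ[Γ(T, V')] L := IsScalarTower.toAlgHom _ _ L
    obtain ⟨e, he, hτe⟩ : RG29.InComp σ L τz := hz
    haveI := RG29.IsCompIdem.isDomain_corner (k := L) he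
    let C := (L ⊗[Γ(T, V')] Γ(P, U')) ⧸ Ideal.span {1 - e}
    let q : L ⊗[Γ(T, V')] Γ(P, U') →+* C := Ideal.Quotient.mk _
    let π : Γ(P, U') →+* C := q.comp (Algebra.TensorProduct.includeRight (R := Γ(T, V'))).toRingHom
    let Q0 : PrimeSpectrum Γ(P, U') := ⟨RingHom.ker π, RingHom.ker_isPrime π⟩
    let qz : PrimeSpectrum Γ(T, V') := PrimeSpectrum.comap φ z
    have hfac : ∀ (g : L ⊗[Γ(T, V')] Γ(P, U') →+* L), g e = 1 → ∀ c, π c = 0 → g (1 ⊗ₜ c) = 0 := by
      intro g hg c hc
      obtain ⟨d, hd⟩ := Ideal.mem_span_singleton'.1 (Ideal.Quotient.eq_zero_iff_mem.1 hc)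
      have := congrArg g hd
      rw [map_mul, map_sub, map_one, hg, sub_self, mul_zero] at this
      exact this.symm
    have h0 : PrimeSpectrum.comap φ Q0 = qz := by
      apply PrimeSpectrum.ext
      ext a
      show π (φ a) = 0 ↔ φ a ∈ z.asIdeal
      rw [← Ideal.algebraMap_residueField_eq_zero]
      have : π (φ a) = q (algebraMap L _ (algebraMap Γ(P, U') L (φ a))) := by
        show q ((1 : L) ⊗ₜ algebraMap Γ(T, V') Γ(P, U') a) = q ((algebraMap Γ(P, U') L (φ a)) ⊗ₜ (1 : Γ(P, U')))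
        congr 1
        rw [show algebraMap Γ(P, U') L (φ a) = algebraMap Γ(T, V') L a from
          (IsScalarTower.algebraMap_apply Γ(T, V') Γ(P, U') L a).symm,
          Algebra.algebraMap_eq_smul_one, Algebra.algebraMap_eq_smul_one, TensorProduct.tmul_smul,
          TensorProduct.smul_tmul']
      rw [this]
      exact (injective_iff_map_eq_zero' (q.comp (algebraMap L _))).1 (q.comp (algebraMap L _)).injective _
    have h1 : Q0 ⤳ z := (PrimeSpectrum.le_iff_specializes _ _).1 fun c hc => by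
      have := hfac (RG29.ptMap τz).toRingHom hτe c hc
      rw [← Ideal.algebraMap_residueField_eq_zero]
      simpa [RG29.ptMap, τz, -Ideal.algebraMap_residueField_eq_zero] using this
    have h2 : Q0 ⤳ PrimeSpectrum.comap σ.toRingHom qz := (PrimeSpectrum.le_iff_specializes _ _).1 fun c hc => by
      have := hfac (RG29.secMap σ L).toRingHom he.2.1 c hc
      show φ (σ c) ∈ z.asIdeal
      rw [← Ideal.algebraMap_residueField_eq_zero, show algebraMap Γ(P, U') L (φ (σ c)) = algebraMap Γ(T, V') L (σ c) from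
          (IsScalarTower.algebraMap_apply Γ(T, V') Γ(P, U') L (σ c)).symm]
      simpa [RG29.secMap_tmul] using this
    set y := hU'.fromSpec z
    have hy : τ (p y) = hU'.fromSpec (PrimeSpectrum.comap σ.toRingHom qz) :=
      (congrArg (fun s => τ s) (hp_spec z)).trans (hτ_spec qz)
    set g := hU'.fromSpec Q0
    have hg : p g = p y := by rw [hp_spec, hp_spec, h0]
    have hgy : g ⤳ y := h1.map hU'.fromSpec.continuous
    have hgτ : g ⤳ τ (p y) := hy ▸ h2.map hU'.fromSpec.continuous
    have hgF : g ∈ p ⁻¹' {p y} := hg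
    have hA : ∀ w, g ⤳ w → p w = p y → w ∈ connectedComponentIn (p ⁻¹' {p y}) g := fun w hw hpw => by
      have hpair : _root_.IsPreconnected ({g, w} : Set P) :=
        isPreconnected_singleton.subset_closure (t := ({g, w} : Set P)) (by simp)
          (Set.insert_subset (subset_closure rfl) (Set.singleton_subset_iff.2 (specializes_iff_mem_closure.1 hw)))
      exact hpair.subset_connectedComponentIn (Set.mem_insert _ _)
        (Set.insert_subset hgF (Set.singleton_subset_iff.2 hpw)) (Set.mem_insert_of_mem _ rfl)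
    show y ∈ connectedComponentIn (p ⁻¹' {p y}) (τ (p y))
    rw [← connectedComponentIn_eq (hA _ hgτ (hpτ _))]
    exact hA _ hgy rfl

/-- The union of the fibre components met by a section of a smooth morphism is open. -/
theorem isOpen_sectionComponents {X S : Scheme.{u}} (f : X ⟶ S) [Smooth f] (e : S ⟶ X) (he : e ≫ f = 𝟙 S) :
    IsOpen (MoreMor.sectionComponents f e) := by
  rw [isOpen_iff_forall_mem_open]
  intro x hx
  let pr1 : pullback f f ⟶ X := pullback.fst f f
  let pr2 : pullback f f ⟶ X := pullback.snd f f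
  have : Smooth pr2 := inferInstanceAs (Smooth (pullback.snd f f))
  let Δ : X ⟶ pullback f f := pullback.lift (𝟙 X) (𝟙 X) rfl
  let τ : X ⟶ pullback f f := pullback.lift (f ≫ e) (𝟙 X) (by simp [he])
  have hΔ : Δ ≫ pr2 = 𝟙 X := pullback.lift_snd _ _ _
  have hΔ1 : ∀ a, pr1 (Δ a) = a := fun a => by
    rw [← Scheme.Hom.comp_apply, show Δ ≫ pr1 = 𝟙 X from pullback.lift_fst _ _ _]; rfl
  have hτ : τ ≫ pr2 = 𝟙 X := pullback.lift_snd _ _ _
  have hbc : MoreMor.sectionComponents pr2 τ = pr1 ⁻¹' MoreMor.sectionComponents f e :=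
    GeomCount24.sectionComponents_baseChange f e he pr2 pr1 f (IsPullback.of_hasPullback f f) τ hτ
      (pullback.lift_fst _ _ _)
  obtain ⟨N1, hN1, hN1s⟩ := exists_nhd_subset pr2 Δ hΔ x
  obtain ⟨N2, hN2, hN2s⟩ := exists_nhd_subset pr2 τ hτ x
  have hpΔ : ∀ a, pr2 (Δ a) = a := fun a => by rw [← Scheme.Hom.comp_apply, hΔ]; rfl
  have hpτ : ∀ a, pr2 (τ a) = a := fun a => by rw [← Scheme.Hom.comp_apply, hτ]; rfl
  have hΔx : Δ x ∈ connectedComponentIn (pr2 ⁻¹' {x}) (τ x) := by
    have h : Δ x ∈ MoreMor.sectionComponents pr2 τ := by rw [hbc, Set.mem_preimage, hΔ1]; exact hx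
    have h' : Δ x ∈ connectedComponentIn (pr2 ⁻¹' {pr2 (Δ x)}) (τ (pr2 (Δ x))) := h
    rwa [hpΔ] at h'
  have hirr : IsPreirreducible (connectedComponentIn (pr2 ⁻¹' {x}) (τ x)) := by
    have := isPreirreducible_connectedComponentIn pr2 (τ x)
    rwa [hpτ] at this
  obtain ⟨z, hz, hz1, hz2⟩ := hirr N1 N2 N1.2 N2.2 ⟨Δ x, hΔx, hN1⟩
    ⟨τ x, mem_connectedComponentIn (by exact hpτ x), hN2⟩
  refine ⟨pr2 '' ((N1 ⊓ N2 : (pullback f f).Opens) : Set ↥(pullback f f)), ?_, pr2.isOpenMap _ (N1 ⊓ N2).2,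
    ⟨z, ⟨hz1, hz2⟩, (connectedComponentIn_subset (pr2 ⁻¹' {x}) (τ x) hz : pr2 z = x)⟩⟩
  rintro _ ⟨w, ⟨hw1, hw2⟩, rfl⟩
  have h1 : w ∈ connectedComponentIn (pr2 ⁻¹' {pr2 w}) (Δ (pr2 w)) := hN1s hw1
  have h2 : w ∈ connectedComponentIn (pr2 ⁻¹' {pr2 w}) (τ (pr2 w)) := hN2s hw2
  have h3 : Δ (pr2 w) ∈ connectedComponentIn (pr2 ⁻¹' {pr2 (Δ (pr2 w))}) (τ (pr2 (Δ (pr2 w)))) := by
    rw [hpΔ, connectedComponentIn_eq h2, ← connectedComponentIn_eq h1]
    exact mem_connectedComponentIn (show pr2 (Δ (pr2 w)) = pr2 w from hpΔ _)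
  have h4 : Δ (pr2 w) ∈ pr1 ⁻¹' MoreMor.sectionComponents f e := hbc ▸ h3
  rwa [Set.mem_preimage, hΔ1] at h4

end Groth.Agent.SecComp38
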