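import Groth.Agent.SecComp38.Open
import Groth.Agent.Unr55.Rigid
import Mathlib.AlgebraicGeometry.Geometrically.Connected

/-! Lifting a section along a separated étale morphism over a smooth scheme with connected fibres. -/

set_option autoImplicit false
set_option linter.style.haveILetI false

universe u

open CategoryTheory CategoryTheory.Limits AlgebraicGeometry TopologicalSpace

namespace Groth.Agent.SecComp38

/-- Two morphisms into a separated unramified scheme which agree on a section of a morphism with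
preconnected fibres are equal. -/
theorem eq_of_section {S T X B : Scheme.{u}} (r : T ⟶ S) (c : S ⟶ T) (hc : c ≫ r = 𝟙 S)
    (hconn : ∀ s : S, _root_.IsPreconnected (r ⁻¹' {s})) (π : X ⟶ B) [FormallyUnramified π]
    [LocallyOfFiniteType π] [IsSeparated π] (a b : T ⟶ X) (w : a ≫ π = b ≫ π) (h : c ≫ a = c ≫ b) : a = b := by
  obtain ⟨W, hW, hmem, hcl⟩ := Unr55.exists_eqLocus π a b w
  have hW' : W = ⊤ := by
    refine top_le_iff.1 fun x _ => ?_
    refine (hconn (r x)).subset_isClopen ⟨hcl ‹_›, W.2⟩ ⟨c (r x), ?_, hmem c h ⟨r x, rfl⟩⟩ rfl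
    show r (c (r x)) = r x
    rw [← Scheme.Hom.comp_apply, hc]
    rfl
  subst hW'
  exact (cancel_epi (Scheme.topIso T).hom).mp hW

variable {S P E : Scheme.{u}} {p : P ⟶ S} [Smooth p] {e : S ⟶ P} {q : E ⟶ P} [Etale q]
  [IsSeparated q] {e' : S ⟶ E}

omit [Smooth p] [Etale q] [IsSeparated q] in
theorem range_lift_subset {T : Scheme.{u}} (t : T ⟶ S) [Subsingleton T] [GeometricallyConnected p]
    [UniversallyOpen p] (σ : pullback p t ⟶ E) (hσ : σ ≫ q = pullback.fst p t)
    (he : e ≫ p = 𝟙 S) (hσe : pullback.lift (t ≫ e) (𝟙 T) (by simp [he]) ≫ σ = t ≫ e') :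
    Set.range σ ⊆ MoreMor.sectionComponents (q ≫ p) e' := by
  rintro _ ⟨x, rfl⟩
  have : Nonempty T := ⟨pullback.snd p t x⟩
  have : ConnectedSpace T := ⟨‹_›⟩
  let o := pullback.snd p t x
  have hf : ∀ y, (q ≫ p) (σ y) = t o := fun y => by
    rw [← Scheme.Hom.comp_apply, reassoc_of% hσ, pullback.condition, Scheme.Hom.comp_apply,
      Subsingleton.elim (pullback.snd p t y) o]
  show σ x ∈ connectedComponentIn _ (e' ((q ≫ p) (σ x)))
  rw [hf x]
  refine (isPreconnected_range σ.continuous).subset_connectedComponentIn ⟨pullback.lift (t ≫ e) (𝟙 T) (by simp [he]) o, ?_⟩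
    (by rintro _ ⟨y, rfl⟩; exact hf y) ⟨x, rfl⟩
  rw [← Scheme.Hom.comp_apply, hσe, Scheme.Hom.comp_apply]

omit [Smooth p] in
/-- A morphism to the base change of `E` whose image lies in the union of the components met by `e'` factors
through a section of `E` over the base change of `P` extending `e'`. -/
theorem eq_comp_lift {T : Scheme.{u}} (t : T ⟶ S) [Subsingleton T] [GeometricallyConnected p]
    [UniversallyOpen p] (σ : pullback p t ⟶ E) (hσ : σ ≫ q = pullback.fst p t)
    (he : e ≫ p = 𝟙 S) (he' : e' ≫ q = e)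
    (hσe : pullback.lift (t ≫ e) (𝟙 T) (by simp [he]) ≫ σ = t ≫ e')
    {W : Scheme.{u}} (a : W ⟶ E) (b : W ⟶ T) (w : a ≫ q ≫ p = b ≫ t)
    (ha : Set.range a ⊆ MoreMor.sectionComponents (q ≫ p) e') :
    a = pullback.lift (a ≫ q) b (by rw [Category.assoc, w]) ≫ σ := by
  let r := pullback.snd (q ≫ p) t
  let qT : pullback (q ≫ p) t ⟶ pullback p t :=
    pullback.lift (pullback.fst (q ≫ p) t ≫ q) r (by rw [Category.assoc, pullback.condition])
  let σT : pullback p t ⟶ pullback (q ≫ p) t :=
    pullback.lift σ (pullback.snd p t) (by rw [reassoc_of% hσ, pullback.condition])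
  let eT : T ⟶ pullback (q ≫ p) t := pullback.lift (t ≫ e') (𝟙 T) (by simp [reassoc_of% he', he])
  have hqT : IsPullback (pullback.fst (q ≫ p) t) qT q (pullback.fst p t) := by
    refine IsPullback.of_bot ?_ (pullback.lift_fst _ _ _).symm (IsPullback.of_hasPullback p t)
    rw [show qT ≫ pullback.snd p t = r from pullback.lift_snd _ _ _]
    exact IsPullback.of_hasPullback _ _
  have : Etale qT := MorphismProperty.of_isPullback hqT ‹_›
  have : IsSeparated qT := MorphismProperty.of_isPullback hqT ‹_›
  have hsec : σT ≫ qT = 𝟙 _ := by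
    apply pullback.hom_ext
    · rw [Category.assoc, Category.id_comp, show qT ≫ pullback.fst p t = _ from pullback.lift_fst _ _ _,
        show σT ≫ pullback.fst (q ≫ p) t ≫ q = _ from pullback.lift_fst_assoc _ _ _ _, hσ]
    · rw [Category.assoc, Category.id_comp, show qT ≫ pullback.snd p t = _ from pullback.lift_snd _ _ _]
      exact pullback.lift_snd _ _ _
  have : IsClosedImmersion σT := by
    have : IsClosedImmersion (σT ≫ qT) := by rw [hsec]; infer_instance
    exact IsClosedImmersion.of_comp σT qT
  have : Etale σT := by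
    have : Etale (σT ≫ qT) := by rw [hsec]; infer_instance
    exact Etale.of_comp σT qT
  have : IsOpenImmersion σT := IsOpenImmersion.of_flat_of_mono σT
  have hclopen : IsClopen (Set.range σT) :=
    ⟨σT.isClosedEmbedding.isClosed_range, σT.isOpenEmbedding.isOpen_range⟩
  have heT : eT = pullback.lift (t ≫ e) (𝟙 T) (by simp [he]) ≫ σT := by
    apply pullback.hom_ext
    · simp only [eT, σT, Category.assoc, pullback.lift_fst, hσe]
    · simp only [eT, σT, Category.assoc, pullback.lift_snd]
  have hSC := GeomCount24.sectionComponents_baseChange (q ≫ p) e' (by rw [reassoc_of% he', he]) r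
    (pullback.fst (q ≫ p) t) t (IsPullback.of_hasPullback _ _) eT (pullback.lift_snd _ _ _) (pullback.lift_fst _ _ _)
  let v : W ⟶ pullback (q ≫ p) t := pullback.lift a b w
  have hv : Set.range v ⊆ Set.range σT := by
    rintro _ ⟨z, rfl⟩
    have hz : v z ∈ MoreMor.sectionComponents r eT := by
      rw [hSC, Set.mem_preimage, ← Scheme.Hom.comp_apply, pullback.lift_fst]
      exact ha ⟨z, rfl⟩
    refine hclopen.connectedComponent_subset (x := eT (r (v z))) ?_ (?_ : v z ∈ _)
    · rw [heT, Scheme.Hom.comp_apply]; exact ⟨_, rfl⟩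
    · exact isPreconnected_connectedComponentIn.subset_connectedComponent
        (mem_connectedComponentIn (F := r ⁻¹' {r (v z)}) (x := eT (r (v z))) (Subsingleton.elim _ _)) hz
  let w' := IsOpenImmersion.lift σT v hv
  have hw' : w' ≫ σT = v := IsOpenImmersion.lift_fac _ _ _
  have hw'' : w' = v ≫ qT := by rw [← hw', Category.assoc, hsec, Category.comp_id]
  have h1 : v ≫ qT = pullback.lift (a ≫ q) b (by rw [Category.assoc, w]) := by
    apply pullback.hom_ext
    · rw [Category.assoc, show qT ≫ pullback.fst p t = _ from pullback.lift_fst _ _ _, pullback.lift_fst]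
      exact pullback.lift_fst_assoc (f := q ≫ p) (g := t) a b w q
    · rw [Category.assoc, show qT ≫ pullback.snd p t = _ from pullback.lift_snd _ _ _]
      exact (pullback.lift_snd (f := q ≫ p) (g := t) a b w).trans (pullback.lift_snd (f := p) (g := t) _ b _).symm
  calc a = v ≫ pullback.fst (q ≫ p) t := (pullback.lift_fst (f := q ≫ p) (g := t) a b w).symm
    _ = w' ≫ σT ≫ pullback.fst (q ≫ p) t := by rw [reassoc_of% hw']
    _ = w' ≫ σ := by rw [pullback.lift_fst]
    _ = _ := by rw [hw'', h1]

/-- A section of a separated étale scheme over the unit section of a smooth scheme with geometrically connected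
fibres extends to a section, if it does so on every geometric fibre. -/
theorem exists_lift [GeometricallyConnected p] (he : e ≫ p = 𝟙 S) (he' : e' ≫ q = e)
    (hfib : ∀ s : S, ∃ (L : CommRingCat.{u}) (_ : IsField L) (t : Spec L ⟶ S) (σ : pullback p t ⟶ E),
      s ∈ Set.range t ∧ σ ≫ q = pullback.fst p t ∧
        pullback.lift (t ≫ e) (𝟙 _) (by simp [he]) ≫ σ = t ≫ e') :
    ∃ g : P ⟶ E, g ≫ q = 𝟙 P ∧ e ≫ g = e' := by
  let U : E.Opens := ⟨MoreMor.sectionComponents (q ≫ p) e',
    isOpen_sectionComponents (q ≫ p) e' (by rw [reassoc_of% he', he])⟩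
  let a : (U : Scheme.{u}) ⟶ P := U.ι ≫ q
  have hsurj : Surjective a := ⟨fun x => by
    obtain ⟨L, hL, t, σ, ⟨o, ho⟩, hσ, hσe⟩ := hfib (p x)
    letI := hL.toField
    have : Subsingleton ↥(Spec L) := inferInstanceAs (Subsingleton (PrimeSpectrum L))
    obtain ⟨z, hz, -⟩ := Scheme.Pullback.exists_preimage_pullback (f := p) (g := t) x o ho.symm
    refine ⟨⟨σ z, range_lift_subset t σ hσ he hσe ⟨z, rfl⟩⟩, ?_⟩
    show q (σ z) = x
    rw [← Scheme.Hom.comp_apply, hσ, hz]⟩
  have hdiag : Surjective (pullback.diagonal a) := ⟨fun z => by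
    obtain ⟨L, hL, t, σ, ⟨o, ho⟩, hσ, hσe⟩ := hfib ((pullback.fst a a ≫ a ≫ p) z)
    letI := hL.toField
    have : Subsingleton ↥(Spec L) := inferInstanceAs (Subsingleton (PrimeSpectrum L))
    obtain ⟨w, hw, -⟩ := Scheme.Pullback.exists_preimage_pullback (f := pullback.fst a a ≫ a ≫ p) (g := t) z o ho.symm
    let pw := pullback.fst (pullback.fst a a ≫ a ≫ p) t
    let bw := pullback.snd (pullback.fst a a ≫ a ≫ p) t
    have hcond : (pw ≫ pullback.snd a a ≫ U.ι) ≫ q ≫ p = bw ≫ t := by
      have := pullback.condition (f := a) (g := a)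
      simp only [pw, bw, a, Category.assoc] at this ⊢
      rw [← reassoc_of% this]
      exact pullback.condition
    have h1 := eq_comp_lift t σ hσ he he' hσe (pw ≫ pullback.fst a a ≫ U.ι) bw
      (by simpa [pw, bw, a] using pullback.condition (f := pullback.fst a a ≫ a ≫ p) (g := t))
      (by rintro _ ⟨y, rfl⟩; exact (pullback.fst a a (pw y)).2)
    have h2 := eq_comp_lift t σ hσ he he' hσe (pw ≫ pullback.snd a a ≫ U.ι) bw hcond
      (by rintro _ ⟨y, rfl⟩; exact (pullback.snd a a (pw y)).2)
    have h12 : pw ≫ pullback.fst a a = pw ≫ pullback.snd a a := by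
      refine (cancel_mono U.ι).1 ?_
      refine ((Category.assoc _ _ _).trans h1).trans (Eq.trans ?_ (h2.symm.trans (Category.assoc _ _ _).symm))
      congr 1
      apply pullback.hom_ext
      · have := pullback.condition (f := a) (g := a)
        simp only [a] at this
        simp only [pullback.lift_fst, Category.assoc]
        exact congrArg (pw ≫ ·) this
      · simp only [pullback.lift_snd]
    have hpw : (pw ≫ pullback.fst a a) ≫ pullback.diagonal a = pw := by
      apply pullback.hom_ext
      · simp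
      · simpa using h12
    refine ⟨(pw ≫ pullback.fst a a) w, ?_⟩
    rw [← Scheme.Hom.comp_apply, hpw, hw]⟩
  have hIso : IsIso (pullback.diagonal a) :=
    (isIso_iff_isOpenImmersion_and_epi_base _).2 ⟨inferInstance, by
      rw [TopCat.epi_iff_surjective]; exact (pullback.diagonal a).surjective⟩
  have : Mono a := (pullback.isIso_diagonal_iff a).1 hIso
  have : IsOpenImmersion a := IsOpenImmersion.of_flat_of_mono a
  have : IsIso a := (isIso_iff_isOpenImmersion_and_epi_base _).2 ⟨inferInstance, by
    rw [TopCat.epi_iff_surjective]; exact a.surjective⟩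
  have hr : Set.range e' ⊆ Set.range U.ι := by
    rintro _ ⟨s, rfl⟩
    rw [Scheme.Opens.range_ι]
    have hs : (q ≫ p) (e' s) = s := by rw [← Scheme.Hom.comp_apply, reassoc_of% he', he]; rfl
    show e' s ∈ connectedComponentIn _ (e' ((q ≫ p) (e' s)))
    rw [hs]
    exact mem_connectedComponentIn hs
  refine ⟨inv a ≫ U.ι, by simp [a], ?_⟩
  have h : IsOpenImmersion.lift U.ι e' hr ≫ a = e := by
    rw [IsOpenImmersion.lift_fac_assoc, he']
  rw [← h, Category.assoc, IsIso.hom_inv_id_assoc, IsOpenImmersion.lift_fac]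

end Groth.Agent.SecComp38
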